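import Mathlib
import Groth.Agent.CAlg1.Regular
import Groth.Agent.CAlg6.RegularNormal

/-! Regularity of simple radical extensions. -/

set_option autoImplicit false
set_option linter.style.haveILetI false
universe u

open IsLocalRing Polynomial

namespace Groth.Agent.CycCov3

/-- The local ring of a hypersurface. -/
noncomputable def quotLocEquiv {A B : Type u} [CommRing A] [CommRing B] (f : A →+* B) (hf : Function.Surjective f)
    (F : A) (hker : RingHom.ker f = Ideal.span {F}) (Q : Ideal B) [Q.IsPrime] :
    (Localization.AtPrime (Q.comap f) ⧸ Ideal.span {algebraMap A (Localization.AtPrime (Q.comap f)) F}) ≃+*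
      Localization.AtPrime Q :=
  let φ : Localization.AtPrime (Q.comap f) →+* Localization.AtPrime Q := Localization.localRingHom _ Q f rfl
  have hφs : Function.Surjective φ := by
    intro z
    obtain ⟨x, s, rfl⟩ := IsLocalization.exists_mk'_eq Q.primeCompl z
    obtain ⟨x0, rfl⟩ := hf x
    obtain ⟨s0, hs0⟩ := hf s
    have hs0' : s0 ∉ Q.comap f := fun hm => s.2 (hs0 ▸ (hm : f s0 ∈ Q))
    refine ⟨IsLocalization.mk' _ x0 (⟨s0, hs0'⟩ : (Q.comap f).primeCompl), ?_⟩
    rw [Localization.localRingHom_mk']
    congr 1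
    exact Subtype.ext hs0
  have hφk : RingHom.ker φ = Ideal.span {algebraMap A (Localization.AtPrime (Q.comap f)) F} := by
    refine le_antisymm (fun z hz => ?_) ?_
    · obtain ⟨x, s, rfl⟩ := IsLocalization.exists_mk'_eq (Q.comap f).primeCompl z
      rw [RingHom.mem_ker, Localization.localRingHom_mk', IsLocalization.mk'_eq_zero_iff] at hz
      obtain ⟨⟨t, ht⟩, htx⟩ := hz
      obtain ⟨t0, rfl⟩ := hf t
      have hmem : t0 * x ∈ RingHom.ker f := by rw [RingHom.mem_ker, map_mul]; exact htx
      rw [hker, Ideal.mem_span_singleton'] at hmem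
      obtain ⟨c, hc⟩ := hmem
      rw [IsLocalization.mk'_eq_mul_mk'_one]
      refine Ideal.mul_mem_right _ _ ((Ideal.unit_mul_mem_iff_mem _
        (IsLocalization.map_units _ (⟨t0, fun hm => ht hm⟩ : (Q.comap f).primeCompl))).1 ?_)
      rw [← map_mul, ← hc, map_mul]
      exact Ideal.mul_mem_left _ _ (Ideal.mem_span_singleton_self _)
    · rw [Ideal.span_le, Set.singleton_subset_iff, SetLike.mem_coe, RingHom.mem_ker, Localization.localRingHom_to_map,
        RingHom.mem_ker.1 (hker ▸ Ideal.mem_span_singleton_self F : F ∈ RingHom.ker f), map_zero]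
  (Ideal.quotEquivOfEq hφk.symm).trans (RingHom.quotientKerEquivOfSurjective hφs)

/-- A non-zero element with regular quotient is outside the square of the maximal ideal. -/
theorem notMem_sq_of_quotient_regular {R : Type u} [CommRing R] [IsRegularLocalRing R] {x : R}
    (hx : x ∈ maximalIdeal R) (hx0 : x ≠ 0) [IsRegularLocalRing (R ⧸ Ideal.span ({x} : Set R))] :
    x ∉ maximalIdeal R ^ 2 := by
  classical
  intro h2
  have := CAlg1.isDomain_regular R
  let q := Ideal.Quotient.mk (Ideal.span ({x} : Set R))
  obtain ⟨s, hcard, hspan⟩ := Submodule.FG.exists_span_finset_card_eq_spanFinrank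
    (maximalIdeal (R ⧸ Ideal.span ({x} : Set R))).fg_of_isNoetherianRing
  choose g hg using Ideal.Quotient.mk_surjective (I := Ideal.span ({x} : Set R))
  let J : Ideal R := Ideal.span (g '' (s : Set _))
  have hJm : J.map q = maximalIdeal _ := by
    rw [Ideal.map_span, ← Set.image_comp, show (q : R → _) ∘ g = id from funext hg, Set.image_id, ← hspan]
  have hle : maximalIdeal R ≤ J ⊔ maximalIdeal R • maximalIdeal R := by
    intro y hy
    have : q y ∈ J.map q := by
      rw [hJm]
      have h0 := CAlg1.comap_maximalIdeal_of_surjective q Ideal.Quotient.mk_surjective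
      rw [← h0] at hy
      exact hy
    obtain ⟨j, hj, hjy⟩ := (Ideal.mem_map_iff_of_surjective q Ideal.Quotient.mk_surjective).1 this
    have hsub : y - j ∈ Ideal.span ({x} : Set R) := Ideal.Quotient.eq.1 hjy.symm
    rw [← add_sub_cancel j y]
    refine Submodule.add_mem_sup hj ((Ideal.span_singleton_le_iff_mem _).2 ?_ hsub)
    rwa [smul_eq_mul, ← pow_two]
  have hJ : maximalIdeal R = J := by
    refine le_antisymm (Submodule.le_of_le_smul_of_le_jacobson_bot (IsNoetherian.noetherian _)
      (maximalIdeal_le_jacobson _) hle) (Ideal.span_le.2 ?_)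
    rintro _ ⟨z, hz, rfl⟩
    intro hu
    have hz' : z ∈ maximalIdeal (R ⧸ Ideal.span ({x} : Set R)) := hspan ▸ Submodule.subset_span hz
    exact hz' (hg z ▸ hu.map q)
  have h1 : (maximalIdeal R).spanFinrank ≤ (maximalIdeal (R ⧸ Ideal.span ({x} : Set R))).spanFinrank := by
    rw [hJ, ← hcard]
    refine (Submodule.spanFinrank_span_le_ncard_of_finite (s.finite_toSet.image g)).trans ?_
    exact (Set.ncard_image_le s.finite_toSet).trans (Set.ncard_coe_finset s).le
  have h3 := CAlg1.ringKrullDim_quotient_succ_le_of_domain (R := R) (I := Ideal.span {x})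
    (by rwa [Ne, Ideal.span_singleton_eq_bot])
  rw [← IsRegularLocalRing.spanFinrank_maximalIdeal (R := R), ← IsRegularLocalRing.spanFinrank_maximalIdeal
    (R := R ⧸ Ideal.span {x})] at h3
  have h4 : (maximalIdeal (R ⧸ Ideal.span ({x} : Set R))).spanFinrank + 1 ≤ (maximalIdeal R).spanFinrank := by
    exact_mod_cast h3
  omega

/-- A hypersurface through which the ambient regular ring is cut transversally is regular. -/
theorem regular_quotient_of_notMem_sq {A B : Type u} [CommRing A] [CommRing B] [IsRegularRing A] (f : A →+* B)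
    (hf : Function.Surjective f) (F : A) (hker : RingHom.ker f = Ideal.span {F}) (Q : Ideal B) [Q.IsPrime]
    (hF : algebraMap A (Localization.AtPrime (Q.comap f)) F ∉ maximalIdeal (Localization.AtPrime (Q.comap f)) ^ 2) :
    IsRegularLocalRing (Localization.AtPrime Q) := by
  have hFP : F ∈ Q.comap f := by
    show f F ∈ Q
    rw [RingHom.mem_ker.1 (hker ▸ Ideal.mem_span_singleton_self F : F ∈ RingHom.ker f)]
    exact Q.zero_mem
  have := (CAlg1.regular_quotient_singleton ((IsLocalization.AtPrime.to_map_mem_maximal_iff _ _ F).2 hFP) hF).1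
  exact IsRegularLocalRing.of_ringEquiv (quotLocEquiv f hf F hker Q)

theorem isRegularRing_adjoinRoot {S : Type u} [CommRing S] [IsRegularRing S] {n : ℕ} (hn : 0 < n)
    (hnS : IsUnit (n : S)) (g : S)
    (hg : ∀ (P : Ideal S) [P.IsPrime], g ∈ P →
      algebraMap S (Localization.AtPrime P) g ∉ maximalIdeal (Localization.AtPrime P) ^ 2) :
    IsRegularRing (AdjoinRoot (X ^ n - C g : S[X])) := by
  rw [isRegularRing_iff]
  intro Q _
  let π : S[X] →+* AdjoinRoot (X ^ n - C g : S[X]) := AdjoinRoot.mk _
  refine regular_quotient_of_notMem_sq π AdjoinRoot.mk_surjective (X ^ n - C g) Ideal.mk_ker Q ?_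
  let P' := Q.comap π
  have hFP : (X ^ n - C g : S[X]) ∈ P' := by
    show π _ ∈ Q
    rw [AdjoinRoot.mk_self]
    exact Q.zero_mem
  by_cases hX : (X : S[X]) ∈ P'
  · let P : Ideal S := P'.comap C
    have hP : P' = P.comap constantCoeff := by
      ext p
      show p ∈ P' ↔ C (p.coeff 0) ∈ P'
      conv_lhs => rw [← p.X_mul_divX_add]
      exact P'.add_mem_iff_right (P'.mul_mem_right _ hX)
    have hgP : g ∈ P := by
      show C g ∈ P'
      have h := P'.sub_mem (P'.pow_mem_of_mem hX n hn) hFP
      rwa [sub_sub_cancel] at h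
    intro h
    apply hg P hgP
    let φ := Localization.localRingHom P' P constantCoeff hP
    have hm : φ (algebraMap _ _ (X ^ n - C g)) ∈ (maximalIdeal (Localization.AtPrime P') ^ 2).map φ :=
      Ideal.mem_map_of_mem φ h
    rw [Ideal.map_pow, Localization.localRingHom_to_map] at hm
    have hm2 := Ideal.pow_right_mono ((((local_hom_TFAE φ).out 0 2).1
      (Localization.isLocalHom_localRingHom P' P constantCoeff hP))) 2 hm
    rwa [map_sub, map_pow, constantCoeff_apply, coeff_X_zero, zero_pow hn.ne', zero_sub, constantCoeff_apply, coeff_C_zero, map_neg, neg_mem_iff] at hm2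
  · refine fun h => ?_
    rw [← Localization.AtPrime.map_eq_maximalIdeal, ← Ideal.map_pow,
      IsLocalization.algebraMap_mem_map_algebraMap_iff P'.primeCompl] at h
    obtain ⟨v, hv, hvF⟩ := h
    have hd : ∀ z ∈ P' ^ 2, derivative z ∈ P' := by
      intro z hz
      rw [pow_two] at hz
      refine Submodule.mul_induction_on hz (fun p hp q hq => ?_) (fun p q hp hq => by rw [map_add]; exact add_mem hp hq)
      rw [derivative_mul]
      exact add_mem (P'.mul_mem_left _ hq) (P'.mul_mem_right _ hp)
    have h2 := hd _ hvF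
    rw [derivative_mul, derivative_sub, derivative_C, sub_zero, derivative_X_pow] at h2
    have h3 := (P'.add_mem_iff_right (P'.mul_mem_left _ hFP)).1 h2
    rcases (inferInstance : P'.IsPrime).mem_or_mem h3 with h4 | h4
    · exact hv h4
    rcases (inferInstance : P'.IsPrime).mem_or_mem h4 with h5 | h5
    · exact (inferInstance : P'.IsPrime).ne_top (Ideal.eq_top_of_isUnit_mem _ h5 (hnS.map C))
    · exact hX ((inferInstance : P'.IsPrime).mem_of_pow_mem _ h5)

/-- A monic scaled root in a regular ring is divisible by the scale. -/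
theorem dvd_of_scaleRoots {R : Type u} [CommRing R] [IsRegularRing R] {g r : R} (hg : g ∈ nonZeroDivisors R)
    {p : R[X]} (hp : p.Monic) (h : (p.scaleRoots g).eval r = 0) : g ∣ r := by
  rw [← Ideal.mem_span_singleton]
  refine Ideal.mem_of_localization_maximal fun M hM => ?_
  let D := Localization.AtPrime M
  have : IsRegularLocalRing D := IsRegularRing.isRegularLocalRing_localization M
  have : IsDomain D := CAlg1.isDomain_regular D
  have : IsIntegrallyClosed D := CAlg6.isIntegrallyClosed_of_regular D
  let ι := (algebraMap D (FractionRing D)).comp (algebraMap R D)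
  have hg0 : ι g ≠ 0 := by
    intro h0
    rw [RingHom.comp_apply, map_eq_zero_iff _ (IsFractionRing.injective D (FractionRing D)),
      IsLocalization.map_eq_zero_iff M.primeCompl] at h0
    obtain ⟨c, hc⟩ := h0
    exact c.2 ((mul_right_mem_nonZeroDivisors_eq_zero_iff hg).1 hc ▸ M.zero_mem)
  have hroot : p.eval₂ ι (ι r / ι g) = 0 := by
    have h1 := Polynomial.scaleRoots_eval₂_mul (p := p) ι (ι r / ι g) g
    rw [mul_div_cancel₀ _ hg0, Polynomial.eval₂_at_apply, h, map_zero] at h1
    exact (mul_eq_zero.1 h1.symm).resolve_left (pow_ne_zero _ hg0)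
  obtain ⟨c, hc⟩ := IsIntegrallyClosed.isIntegral_iff.1 (⟨p.map (algebraMap R D), hp.map _,
    by rw [Polynomial.eval₂_map]; exact hroot⟩ : IsIntegral D (ι r / ι g))
  rw [eq_div_iff hg0] at hc
  have hc' : algebraMap R D r = algebraMap R D g * c := by
    refine IsFractionRing.injective D (FractionRing D) ?_
    rw [map_mul, mul_comm]
    exact hc.symm
  rw [show algebraMap R (Localization.AtPrime M) r = _ from hc']
  exact Ideal.mul_mem_right _ _ (Ideal.mem_map_of_mem _ (Ideal.mem_span_singleton_self g))

end Groth.Agent.CycCov3
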