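import Mathlib
import Groth.Agent.CycCov3.Regular

/-! Normalisations of cyclic covers with non-singular branch divisor. -/

set_option autoImplicit false
set_option linter.style.haveILetI false
universe u

open IsLocalRing Polynomial

namespace Groth.Agent.CycCov3

/-- Exponent calculus with an inverse pair. -/
theorem pow_mul_inv_pow {K : Type u} [CommRing K] {f i : K} (hfi : f * i = 1) {p q p' q' : ℕ} (h : p + q' = p' + q) :
    f ^ p * i ^ q = f ^ p' * i ^ q' := by
  have h1 : f ^ p * i ^ q * f ^ (q + q') = f ^ (p + q') := by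
    calc f ^ p * i ^ q * f ^ (q + q') = f ^ (p + q') * (f * i) ^ q := by rw [pow_add, pow_add, mul_pow]; ring
      _ = f ^ (p + q') := by rw [hfi, one_pow, mul_one]
  have h2 : f ^ p' * i ^ q' * f ^ (q + q') = f ^ (p' + q) := by
    calc f ^ p' * i ^ q' * f ^ (q + q') = f ^ (p' + q) * (f * i) ^ q' := by rw [pow_add, pow_add, mul_pow]; ring
      _ = f ^ (p' + q) := by rw [hfi, one_pow, mul_one]
  exact ((IsUnit.of_mul_eq_one i hfi).pow (q + q')).mul_left_injective (h1.trans ((congrArg _ h).trans h2.symm))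

theorem exists_exponents {N α : ℕ} (hN : 0 < N) : ∃ d n a x y z : ℕ, N = d * n ∧ α = d * a ∧ 0 < d ∧ 0 < n ∧
    a * x + n * z = n * y + 1 := by
  let d := Nat.gcd α N
  have hd : 0 < d := Nat.gcd_pos_of_pos_right _ hN
  obtain ⟨n, hn⟩ : d ∣ N := Nat.gcd_dvd_right α N
  obtain ⟨a, ha⟩ : d ∣ α := Nat.gcd_dvd_left α N
  have hn0 : 0 < n := Nat.pos_of_ne_zero fun h => by subst h; omega
  have hco : Nat.Coprime a n := by
    refine Nat.eq_of_mul_eq_mul_left hd ?_
    rw [mul_one, ← Nat.gcd_mul_left, ← ha, ← hn]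
  rcases Nat.lt_or_ge 1 n with h1 | h1
  · obtain ⟨x, -, hx⟩ := Nat.exists_mul_mod_eq_one_of_coprime hco h1
    exact ⟨d, n, a, x, a * x / n, 0, hn, ha, hd, hn0, by
      have := Nat.div_add_mod (a * x) n
      rw [mul_zero, add_zero]
      omega⟩
  · obtain rfl : n = 1 := by omega
    exact ⟨d, 1, a, 0, 0, 1, hn, ha, hd, hn0, by omega⟩

variable {B : Type u} [CommRing B] [IsDomain B] [IsRegularRing B]
variable (d n a x y z N α : ℕ) (u : Bˣ) (f : B)

/-- The étale part. -/
abbrev Sring : Type u := AdjoinRoot (X ^ d - C (u : B) : B[X])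

/-- The root of the unit. -/
noncomputable abbrev wS : Sring d u := AdjoinRoot.root _

/-- The totally ramified part. -/
abbrev Rring : Type u := AdjoinRoot (X ^ n - C (wS d u ^ x * algebraMap B (Sring d u) f) : (Sring d u)[X])

/-- The cyclic cover. -/
abbrev Cring : Type u := AdjoinRoot (X ^ N - C ((u : B) * f ^ α) : B[X])

/-- The cyclic cover away from the branch locus. -/
abbrev Kring : Type u := Localization.Away (algebraMap B (Cring N α u f) f)

/-- The root. -/
noncomputable abbrev tK : Kring N α u f := algebraMap (Cring N α u f) _ (AdjoinRoot.root _)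

/-- The inverse of the branch function. -/
noncomputable abbrev iK : Kring N α u f := IsLocalization.Away.invSelf (algebraMap B (Cring N α u f) f)

variable {d n x}

theorem wS_pow : wS d u ^ d = algebraMap B (Sring d u) u := by
  have h := AdjoinRoot.eval₂_root (X ^ d - C (u : B) : B[X])
  simp only [eval₂_sub, eval₂_X_pow, eval₂_C, sub_eq_zero] at h
  exact h

theorem isUnit_wS (hd : 0 < d) : IsUnit (wS d u) := by
  refine (isUnit_pow_iff hd.ne').1 ?_
  rw [wS_pow]
  exact u.isUnit.map _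

theorem isRegularRing_Sring (hd : 0 < d) (hdB : IsUnit (d : B)) : IsRegularRing (Sring d u) :=
  isRegularRing_adjoinRoot hd hdB _ fun P _ h => absurd (Ideal.eq_top_of_isUnit_mem P h u.isUnit) Ideal.IsPrime.ne_top'

theorem monicS (hd : 0 < d) : (X ^ d - C (u : B) : B[X]).Monic := monic_X_pow_sub_C _ hd.ne'

theorem free_Sring (hd : 0 < d) : Module.Free B (Sring d u) := (monicS u hd).free_adjoinRoot

theorem finite_Sring (hd : 0 < d) : Module.Finite B (Sring d u) := (monicS u hd).finite_adjoinRoot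

theorem algebraMap_ne_zero_mem_nonZeroDivisors {T : Type u} [CommRing T] [Algebra B T] [Module.Free B T] {c : B}
    (hc : c ≠ 0) : algebraMap B T c ∈ nonZeroDivisors T := by
  refine mem_nonZeroDivisors_iff_right.2 fun t ht => ?_
  rw [mul_comm, ← Algebra.smul_def] at ht
  exact (smul_eq_zero.1 ht).resolve_left hc

theorem notMem_sq_Sring (hd : 0 < d) (hdB : IsUnit (d : B)) (hf : f ≠ 0) [IsRegularRing (B ⧸ Ideal.span {f})]
    (P : Ideal (Sring d u)) [P.IsPrime] (hfP : algebraMap B (Sring d u) f ∈ P) :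
    algebraMap (Sring d u) (Localization.AtPrime P) (algebraMap B _ f) ∉ maximalIdeal (Localization.AtPrime P) ^ 2 := by
  have := isRegularRing_Sring u hd hdB
  have := free_Sring u hd
  let I : Ideal B := Ideal.span {f}
  let J : Ideal (Sring d u) := Ideal.span {algebraMap B _ f}
  have hJ : I.map (AdjoinRoot.of (X ^ d - C (u : B) : B[X])) = J := by
    rw [Ideal.map_span, Set.image_singleton]; rfl
  let e₁ := AdjoinRoot.quotAdjoinRootEquivQuotPolynomialQuot I (X ^ d - C (u : B) : B[X])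
  have : IsRegularRing ((Sring d u) ⧸ J) := by
    have h := isRegularRing_adjoinRoot (S := B ⧸ I) hd (by simpa using hdB.map (Ideal.Quotient.mk I))
      (Ideal.Quotient.mk I u) fun Q _ h => absurd (Ideal.eq_top_of_isUnit_mem Q h (u.isUnit.map _)) Ideal.IsPrime.ne_top'
    rw [show (X ^ d - C (Ideal.Quotient.mk I u) : (B ⧸ I)[X]) = (X ^ d - C (u : B) : B[X]).map (Ideal.Quotient.mk I) by
      simp] at h
    let e₂ : AdjoinRoot ((X ^ d - C (u : B) : B[X]).map (Ideal.Quotient.mk I)) ≃+* (Sring d u ⧸ J) :=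
      e₁.symm.trans (Ideal.quotEquivOfEq hJ)
    exact IsRegularRing.of_ringEquiv e₂
  let q := Ideal.Quotient.mk J
  have hJP : J ≤ P := (Ideal.span_singleton_le_iff_mem _).2 hfP
  have hcomap : (P.map q).comap q = P := by
    rw [Ideal.comap_map_of_surjective' q Ideal.Quotient.mk_surjective, Ideal.mk_ker, sup_eq_left.2 hJP]
  have hPq : (P.map q).IsPrime := Ideal.map_isPrime_of_surjective Ideal.Quotient.mk_surjective (Ideal.mk_ker.le.trans hJP)
  have hQ : ∀ (P' : Ideal (Sring d u)) [P'.IsPrime], P' = (P.map q).comap q →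
      algebraMap (Sring d u) (Localization.AtPrime P') (algebraMap B _ f) ∉ maximalIdeal (Localization.AtPrime P') ^ 2 := by
    intro P' _ hP'
    subst hP'
    have : IsRegularLocalRing (Localization.AtPrime ((P.map q).comap q) ⧸
        Ideal.span {algebraMap (Sring d u) (Localization.AtPrime ((P.map q).comap q)) (algebraMap B _ f)}) :=
      IsRegularLocalRing.of_ringEquiv (quotLocEquiv q Ideal.Quotient.mk_surjective _ Ideal.mk_ker (P.map q)).symm
    refine notMem_sq_of_quotient_regular ?_ ?_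
    · refine (IsLocalization.AtPrime.to_map_mem_maximal_iff _ ((P.map q).comap q) _).2 ?_
      rw [hcomap]
      exact hfP
    · intro h0
      obtain ⟨c, hc⟩ := (IsLocalization.map_eq_zero_iff ((P.map q).comap q).primeCompl
        (Localization.AtPrime ((P.map q).comap q)) _).1 h0
      exact c.2 ((mul_right_mem_nonZeroDivisors_eq_zero_iff (algebraMap_ne_zero_mem_nonZeroDivisors hf)).1 hc ▸
        Ideal.zero_mem _)
  exact hQ P hcomap.symm

theorem isRegularRing_Rring (hd : 0 < d) (hdB : IsUnit (d : B)) (hn : 0 < n) (hnB : IsUnit (n : B)) (hf : f ≠ 0)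
    [IsRegularRing (B ⧸ Ideal.span {f})] : IsRegularRing (Rring (d := d) (n := n) (x := x) u f) := by
  have := isRegularRing_Sring u hd hdB
  refine isRegularRing_adjoinRoot hn (by simpa using hnB.map (algebraMap B (Sring d u))) _ fun P _ h => ?_
  have hfP := (Ideal.IsPrime.mem_or_mem ‹P.IsPrime› h).resolve_left fun hw =>
    Ideal.IsPrime.ne_top ‹P.IsPrime› (Ideal.eq_top_of_isUnit_mem P hw ((isUnit_wS u hd).pow x))
  rw [map_mul, Ideal.unit_mul_mem_iff_mem _ (((isUnit_wS u hd).pow x).map _)]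
  exact notMem_sq_Sring u f hd hdB hf P hfP

omit [IsDomain B] [IsRegularRing B] in
theorem root_pow {T : Type u} [CommRing T] {m : ℕ} (_hm : 0 < m) (c : T) :
    (AdjoinRoot.root (X ^ m - C c : T[X])) ^ m = algebraMap T (AdjoinRoot (X ^ m - C c : T[X])) c := by
  have h := AdjoinRoot.eval₂_root (X ^ m - C c : T[X])
  simp only [eval₂_sub, eval₂_X_pow, eval₂_C, sub_eq_zero] at h
  exact h

omit [IsDomain B] [IsRegularRing B] in
theorem exists_lift {S T : Type u} [CommRing S] [CommRing T] [Algebra B S] [Algebra B T] {N : ℕ} (c : S) (g : S →ₐ[B] T)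
    (s : T) (h : s ^ N = g c) : ∃ φ : AdjoinRoot (X ^ N - C c : S[X]) →ₐ[B] T,
      φ (AdjoinRoot.root _) = s ∧ ∀ b : S, φ (AdjoinRoot.of _ b) = g b :=
  ⟨AdjoinRoot.liftAlgHom _ g s (by rw [eval₂_sub, eval₂_X_pow, eval₂_C, sub_eq_zero]; exact h),
    AdjoinRoot.liftAlgHom_root _ _ _ _, fun b => AdjoinRoot.liftAlgHom_of _ _ _ _ b⟩

omit [IsDomain B] [IsRegularRing B] in
theorem adjoin_tower_eq_top {S : Type u} [CommRing S] [Algebra B S] (s₀ : S) (hs : Algebra.adjoin B {s₀} = ⊤) (g : S[X]) :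
    Algebra.adjoin B ({algebraMap S (AdjoinRoot g) s₀, AdjoinRoot.root g} : Set (AdjoinRoot g)) = ⊤ := by
  refine eq_top_iff.2 fun r _ => ?_
  let A₁ := Algebra.adjoin B ({algebraMap S (AdjoinRoot g) s₀, AdjoinRoot.root g} : Set (AdjoinRoot g))
  have hS : ∀ b : S, algebraMap S (AdjoinRoot g) b ∈ A₁ := fun b => by
    have h : IsScalarTower.toAlgHom B S (AdjoinRoot g) b ∈ (Algebra.adjoin B {s₀}).map (IsScalarTower.toAlgHom B S (AdjoinRoot g)) :=
      ⟨b, by rw [hs]; trivial, rfl⟩
    rw [AlgHom.map_adjoin, Set.image_singleton] at h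
    exact Algebra.adjoin_mono (Set.singleton_subset_iff.2 (Set.mem_insert _ _)) h
  induction r using AdjoinRoot.induction_on with
  | ih p =>
    induction p using Polynomial.induction_on' with
    | add p q hp hq => rw [map_add]; exact add_mem (hp trivial) (hq trivial)
    | monomial k b =>
      rw [← C_mul_X_pow_eq_monomial, map_mul, map_pow, AdjoinRoot.mk_C, AdjoinRoot.mk_X]
      exact mul_mem (hS b) (pow_mem (Algebra.subset_adjoin (Set.mem_insert_of_mem _ (Set.mem_singleton _))) _)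

omit [IsDomain B] [IsRegularRing B] in
theorem exists_phi {S K : Type u} [CommRing S] [CommRing K] [Algebra B S] [Algebra B K] (t i : K) (w : S)
    (φS : S →ₐ[B] K) (hφS : φS w = t ^ n * i ^ a) (key : a * x + n * z = n * y + 1) (hfi : algebraMap B K f * i = 1) :
    ∃ φ : AdjoinRoot (X ^ n - C (w ^ x * algebraMap B S f) : S[X]) →ₐ[B] K,
      φ (algebraMap S _ w) = t ^ n * i ^ a ∧
      φ (AdjoinRoot.root _) = t ^ x * algebraMap B K f ^ z * i ^ y := by
  let fK := algebraMap B K f
  let vK := t ^ x * fK ^ z * i ^ y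
  obtain ⟨φ, hφv, hφS'⟩ := exists_lift (w ^ x * algebraMap B S f) φS vK (N := n) (by
    rw [map_mul, map_pow, hφS, AlgHom.commutes]
    show (t ^ x * fK ^ z * i ^ y) ^ n = (t ^ n * i ^ a) ^ x * fK
    rw [mul_pow, mul_pow, mul_pow, ← pow_mul, ← pow_mul, ← pow_mul, ← pow_mul, ← pow_mul, mul_comm x n, mul_assoc,
      mul_assoc, pow_mul_inv_pow hfi (p' := 1) (q' := a * x) (by rw [mul_comm z n, mul_comm y n]; omega), pow_one,
      mul_comm (i ^ _) fK])
  exact ⟨φ, (hφS' _).trans hφS, hφv⟩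

section

variable {C R K : Type u} [CommRing C] [CommRing R] [CommRing K] [Algebra B C] [Algebra B R] [Algebra B K] [Algebra C K]
  [IsScalarTower B C K] [Module.Finite B C] [Module.Finite B R]

omit [IsDomain B] [IsRegularRing B] [Module.Finite B C] [Module.Finite B R] in
theorem t0_pow (W W' v : R) {fR : R} (hW : W * W' = 1) (hv : v ^ n = W ^ x * fR) (key : a * x + n * z = n * y + 1) :
    (v ^ a * W ^ z * W' ^ y) ^ n = W * fR ^ a ∧ (v ^ a * W ^ z * W' ^ y) ^ x * fR ^ z = v * fR ^ y := by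
  let t₀ : R := v ^ a * W ^ z * W' ^ y
  have ht₀ : t₀ ^ n = W * fR ^ a := by
    calc t₀ ^ n = (v ^ n) ^ a * W ^ (n * z) * W' ^ (n * y) := by
          show (v ^ a * W ^ z * W' ^ y) ^ n = _
          rw [mul_pow, mul_pow, ← pow_mul, ← pow_mul, ← pow_mul, ← pow_mul, mul_comm a n, mul_comm z n, mul_comm y n]
      _ = W ^ (a * x + n * z) * W' ^ (n * y) * fR ^ a := by
          rw [hv, mul_pow, ← pow_mul, mul_comm x a, pow_add]; ring
      _ = W * fR ^ a := by
          rw [key, pow_add, pow_one, mul_comm (W ^ _) W, mul_assoc W, ← mul_pow, hW, one_pow, mul_one]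
  have ht₁ : t₀ ^ x * fR ^ z = v * fR ^ y := by
    calc t₀ ^ x * fR ^ z = v ^ (a * x) * (W ^ x * fR) ^ z * W' ^ (y * x) := by
          show (v ^ a * W ^ z * W' ^ y) ^ x * _ = _
          rw [mul_pow, mul_pow, mul_pow, ← pow_mul, ← pow_mul, ← pow_mul, ← pow_mul, mul_comm z x]; ring
      _ = v * (v ^ n) ^ y * W' ^ (y * x) := by
          rw [← hv, ← pow_mul, ← pow_mul, ← pow_add, key, pow_add, pow_one, mul_comm (v ^ _) v]
      _ = v * fR ^ y := by
          rw [hv, mul_pow, ← pow_mul, mul_comm y x, show v * (W ^ (x * y) * fR ^ y) * W' ^ (x * y) =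
            v * fR ^ y * (W * W') ^ (x * y) by rw [mul_pow]; ring, hW, one_pow, mul_one]
  exact ⟨ht₀, ht₁⟩

theorem main_abs [IsRegularRing R] [IsLocalization.Away (algebraMap B C f) K] (hfR : algebraMap B R f ∈ nonZeroDivisors R)
    (hN : N = d * n) (hα : α = d * a) (hd : 0 < d) (hn : 0 < n) (key : a * x + n * z = n * y + 1)
    (r₀ : C) (htr : r₀ ^ N = algebraMap B C u * algebraMap B C f ^ α) (hCtop : Algebra.adjoin B {r₀} = ⊤)
    (W W' v : R) (hW : W * W' = 1) (hv : v ^ n = W ^ x * algebraMap B R f) (hRtop : Algebra.adjoin B {W, v} = ⊤)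
    (ψ : C →ₐ[B] R) (hψt : ψ r₀ = v ^ a * W ^ z * W' ^ y)
    (φ : R →ₐ[B] K) (hφW : φ W = algebraMap C K r₀ ^ n * IsLocalization.Away.invSelf (algebraMap B C f) ^ a)
    (hφv : φ v = algebraMap C K r₀ ^ x * algebraMap B K f ^ z * IsLocalization.Away.invSelf (algebraMap B C f) ^ y)
    (A : Subalgebra B K)
    (hA : A = Algebra.adjoin B (Set.range fun k : Fin N => algebraMap C K r₀ ^ (k : ℕ) *
      IsLocalization.Away.invSelf (algebraMap B C f) ^ ((k : ℕ) * α / N))) :
    Module.Finite B A ∧ IsIntegralClosure A C K ∧ IsRegularRing A := by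
  have hN0 : 0 < N := hN ▸ Nat.mul_pos hd hn
  let fR : R := algebraMap B R f
  let fK : K := algebraMap B K f
  let t : K := algebraMap C K r₀
  let i : K := IsLocalization.Away.invSelf (algebraMap B C f)
  let t₀ : R := v ^ a * W ^ z * W' ^ y
  let wK : K := t ^ n * i ^ a
  let vK : K := t ^ x * fK ^ z * i ^ y
  obtain ⟨ht₀, ht₁⟩ := t0_pow (n := n) (x := x) a y z W W' v hW hv key
  have hψB : ∀ b : B, ψ (algebraMap B C b) = algebraMap B R b := ψ.commutes
  have hfi : fK * i = 1 := by
    show algebraMap B K f * _ = 1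
    rw [IsScalarTower.algebraMap_apply B C K]
    exact IsLocalization.Away.mul_invSelf _
  have htK : t ^ N = algebraMap B K u * fK ^ α := by
    show algebraMap C K r₀ ^ N = algebraMap B K u * algebraMap B K f ^ α
    rw [← map_pow, htr, map_mul, map_pow, ← IsScalarTower.algebraMap_apply, ← IsScalarTower.algebraMap_apply]
  have hφf : φ fR = fK := φ.commutes f
  have hW'K : wK * φ W' = 1 := by show t ^ n * i ^ a * _ = 1; rw [← hφW, ← map_mul, hW, map_one]
  have hφt : φ t₀ = t := by
    show φ (v ^ a * W ^ z * W' ^ y) = t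
    rw [map_mul, map_mul, map_pow, map_pow, map_pow, hφv, hφW]
    refine ((IsUnit.of_mul_eq_one _ hW'K).pow y).mul_left_injective ?_
    show vK ^ a * wK ^ z * φ W' ^ y * wK ^ y = t * wK ^ y
    rw [mul_assoc (vK ^ a * wK ^ z), ← mul_pow, mul_comm (φ W'), hW'K, one_pow, mul_one]
    show (t ^ x * fK ^ z * i ^ y) ^ a * (t ^ n * i ^ a) ^ z = t * (t ^ n * i ^ a) ^ y
    calc (t ^ x * fK ^ z * i ^ y) ^ a * (t ^ n * i ^ a) ^ z
          = t ^ (a * x + n * z) * i ^ (a * y) * (fK * i) ^ (a * z) := by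
            rw [mul_pow, mul_pow, mul_pow, mul_pow, ← pow_mul, ← pow_mul, ← pow_mul, ← pow_mul, ← pow_mul,
              mul_comm x a, mul_comm z a, mul_comm y a, pow_add]
            ring
      _ = t * (t ^ n * i ^ a) ^ y := by
            rw [hfi, one_pow, mul_one, key, pow_add, pow_one, mul_pow, ← pow_mul, ← pow_mul]; ring
  have hφψ : φ.comp ψ = IsScalarTower.toAlgHom B C K :=
    AlgHom.ext_of_adjoin_eq_top hCtop fun c hc => by
      rw [Set.mem_singleton_iff.1 hc, AlgHom.comp_apply, hψt]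
      exact hφt
  let L := Localization.Away fR
  let ι : R →+* L := algebraMap R L
  have hfL : IsUnit (ι.comp ψ.toRingHom (algebraMap B C f)) := by
    show IsUnit (ι (ψ (algebraMap B C f)))
    rw [hψB]
    exact IsLocalization.Away.algebraMap_isUnit fR
  let Ψ : K →+* L := IsLocalization.Away.lift (algebraMap B C f) hfL
  have hΨ : ∀ c : C, Ψ (algebraMap C K c) = ι (ψ c) := fun c => IsLocalization.Away.lift_eq _ _ c
  have hΨB : ∀ b : B, Ψ (algebraMap B K b) = ι (algebraMap B R b) := fun b => by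
    rw [IsScalarTower.algebraMap_apply B C K, hΨ, hψB]
  have hΨt : Ψ t = ι t₀ := (hΨ _).trans (congrArg ι hψt)
  have hu : IsUnit (ι fR) := IsLocalization.Away.algebraMap_isUnit fR
  have hΨf : Ψ fK = ι fR := hΨB f
  have hΨw : Ψ wK = ι W := by
    refine (hu.pow a).mul_left_injective ?_
    show Ψ (t ^ n * i ^ a) * ι fR ^ a = ι W * ι fR ^ a
    rw [← hΨf, ← map_pow Ψ fK a, ← map_mul Ψ, mul_assoc, ← mul_pow, mul_comm i, hfi, one_pow, mul_one, map_pow Ψ t n, hΨt,
      ← map_pow ι t₀ n, ht₀, map_mul ι, map_pow ι fR a, map_pow Ψ fK a, hΨf]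
  have hΨv : Ψ vK = ι v := by
    refine (hu.pow y).mul_left_injective ?_
    show Ψ (t ^ x * fK ^ z * i ^ y) * ι fR ^ y = ι v * ι fR ^ y
    rw [← hΨf, ← map_pow Ψ, ← map_mul, mul_assoc, ← mul_pow, mul_comm i, hfi, one_pow, mul_one, map_mul, map_pow, map_pow,
      hΨt, hΨf, ← map_pow, ← map_pow, ← map_mul, ht₁, map_mul, map_pow, map_pow, hΨf]
  have hΨB' : ∀ b : B, Ψ (algebraMap B K b) = algebraMap B L b := fun b => by
    rw [hΨB]
    exact (IsScalarTower.algebraMap_apply B R L b).symm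
  have hΨφ : Ψ.comp φ.toRingHom = ι := by
    have h : (AlgHom.mk Ψ hΨB').comp φ = IsScalarTower.toAlgHom B R L :=
      AlgHom.ext_of_adjoin_eq_top hRtop fun c hc => by
        rcases hc with rfl | hc
        · exact (congrArg Ψ hφW).trans hΨw
        · rw [Set.mem_singleton_iff.1 hc]
          exact (congrArg Ψ hφv).trans hΨv
    exact congrArg AlgHom.toRingHom h
  have hιinj : Function.Injective ι :=
    IsLocalization.injective L (Submonoid.powers_le.2 hfR)
  have hφinj : Function.Injective φ := fun p q h => hιinj (by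
    rw [← hΨφ, RingHom.comp_apply, RingHom.comp_apply]; exact congrArg Ψ h)
  have hdiv : ∀ k : ℕ, t ^ k * i ^ (k * α / N) ∈ φ.range := by
    intro k
    obtain ⟨q, r, hqr, hr⟩ : ∃ q r, a * k = n * q + r ∧ q = k * α / N :=
      ⟨a * k / n, a * k % n, (Nat.div_add_mod _ _).symm, by
        rw [hN, hα, ← Nat.div_div_eq_div_mul, show k * (d * a) = d * (a * k) by ring, Nat.mul_div_cancel_left _ hd]⟩
    refine ⟨v ^ r * W ^ (x * q) * (W ^ z * W' ^ y) ^ k, ?_⟩
    rw [← hr]
    show φ _ = _
    refine ((IsUnit.of_mul_eq_one _ hfi).pow q).mul_left_injective ?_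
    show φ _ * fK ^ q = t ^ k * i ^ q * fK ^ q
    rw [mul_assoc (t ^ k), ← mul_pow, mul_comm i, hfi, one_pow, mul_one, ← hφt, ← hφf, ← map_pow φ fR q, ← map_pow φ t₀ k, ← map_mul φ]
    congr 1
    show _ = (v ^ a * W ^ z * W' ^ y) ^ k
    rw [mul_assoc (v ^ a), mul_pow (v ^ a), ← pow_mul, hqr, pow_add, pow_mul v n q, hv, mul_pow (W ^ x), ← pow_mul]
    ring
  have hAr : A = φ.range := by
    subst hA
    refine le_antisymm (Algebra.adjoin_le ?_) ?_
    · rintro _ ⟨k, rfl⟩
      exact hdiv k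
    let A₀ := Algebra.adjoin B (Set.range fun k : Fin N => t ^ (k : ℕ) * i ^ ((k : ℕ) * α / N))
    have hgen : ∀ k, t ^ k * i ^ (k * α / N) ∈ A₀ := by
      intro k
      have hk : t ^ k * i ^ (k * α / N) = algebraMap B K u ^ (k / N) * (t ^ (k % N) * i ^ ((k % N) * α / N)) := by
        have e : k * α / N = (k % N) * α / N + α * (k / N) := by
          conv_lhs => rw [← Nat.div_add_mod k N]
          rw [show (N * (k / N) + k % N) * α = (k % N) * α + N * (α * (k / N)) by ring, Nat.add_mul_div_left _ _ hN0]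
        conv_lhs => rw [e, ← Nat.div_add_mod k N, pow_add, pow_mul, htK, mul_pow, ← pow_mul]
        rw [Nat.mul_add_mod, Nat.mod_mod, Nat.mul_add_div hN0, Nat.div_eq_of_lt (Nat.mod_lt _ hN0), add_zero, pow_add]
        calc _ = algebraMap B K u ^ (k / N) * (t ^ (k % N) * i ^ ((k % N) * α / N)) * (fK * i) ^ (α * (k / N)) := by ring
          _ = _ := by rw [hfi, one_pow, mul_one]
      rw [hk]
      exact mul_mem (pow_mem (A₀.algebraMap_mem _) _) (Algebra.subset_adjoin ⟨⟨k % N, Nat.mod_lt _ hN0⟩, rfl⟩)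
    have hle : ∀ k j, j ≤ k * α / N → t ^ k * i ^ j ∈ A₀ := fun k j hj => by
      obtain ⟨e, he⟩ := Nat.exists_eq_add_of_le hj
      have : t ^ k * i ^ j = fK ^ e * (t ^ k * i ^ (k * α / N)) := by
        calc t ^ k * i ^ j = t ^ k * i ^ j * (fK * i) ^ e := by rw [hfi, one_pow, mul_one]
          _ = fK ^ e * (t ^ k * i ^ (k * α / N)) := by rw [he, pow_add, mul_pow]; ring
      rw [this]
      exact mul_mem (pow_mem (A₀.algebraMap_mem _) _) (hgen k)
    have hW0 : φ W ∈ A₀ := by
      rw [hφW]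
      refine hle n a (le_of_eq ?_)
      rw [hN, hα, show n * (d * a) = d * n * a by ring, Nat.mul_div_cancel_left _ (Nat.mul_pos hd hn)]
    have hv0 : φ v ∈ A₀ := by
      rw [hφv]
      show t ^ x * fK ^ z * i ^ y ∈ A₀
      rw [mul_assoc, pow_mul_inv_pow hfi (p' := z - y) (q' := y - z) (by omega), mul_left_comm]
      refine mul_mem (pow_mem (A₀.algebraMap_mem _) _) (hle x (y - z) ((Nat.le_div_iff_mul_le hN0).2 ?_))
      rcases Nat.le_total y z with h | h
      · simp [Nat.sub_eq_zero_of_le h]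
      obtain ⟨w, rfl⟩ := Nat.exists_eq_add_of_le h
      rw [Nat.add_sub_cancel_left, hN, hα]
      nlinarith
    show φ.range ≤ A₀
    rw [← Algebra.map_top, ← hRtop, AlgHom.map_adjoin, Algebra.adjoin_le_iff]
    rintro _ ⟨c, hc, rfl⟩
    rcases hc with rfl | hc
    · exact hW0
    · rw [Set.mem_singleton_iff.1 hc]; exact hv0
  let e : R ≃ₐ[B] A := (AlgEquiv.ofInjective φ hφinj).trans (Subalgebra.equivOfEq _ _ hAr.symm)
  have : Module.Finite B A := Module.Finite.equiv e.toLinearEquiv
  refine ⟨this, ⟨Subtype.val_injective, fun {w} => ⟨fun hw => ?_, ?_⟩⟩, IsRegularRing.of_ringEquiv e.toRingEquiv⟩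
  · have hw' : IsIntegral B w := isIntegral_trans (R := B) (A := C) w hw
    obtain ⟨p, hp, hp0⟩ := hw'
    obtain ⟨⟨c, ⟨_, k, rfl⟩⟩, hc⟩ := IsLocalization.surj (Submonoid.powers (algebraMap B C f)) w
    have hc' : w * fK ^ k = φ (ψ c) := by
      rw [show φ (ψ c) = algebraMap C K c from DFunLike.congr_fun hφψ c, ← hc, map_pow,
        ← IsScalarTower.algebraMap_apply]
    have hroot : ((p.map (algebraMap B R)).scaleRoots (fR ^ k)).eval (ψ c) = 0 := by
      refine hφinj ?_
      rw [map_zero]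
      show φ.toRingHom _ = 0
      rw [← Polynomial.eval₂_at_apply]
      have h1 := Polynomial.scaleRoots_eval₂_mul (p := p.map (algebraMap B R)) φ.toRingHom w (fR ^ k)
      rw [Polynomial.eval₂_map, show φ.toRingHom.comp (algebraMap B R) = algebraMap B K from φ.comp_algebraMap, hp0,
        mul_zero, show φ.toRingHom (fR ^ k) = fK ^ k by rw [map_pow]; exact congrArg (· ^ k) hφf, mul_comm, hc'] at h1
      exact h1
    obtain ⟨r, hr⟩ := dvd_of_scaleRoots (pow_mem hfR k) (hp.map _) hroot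
    refine ⟨e r, ?_⟩
    show φ r = w
    refine ((IsUnit.of_mul_eq_one _ hfi).pow k).mul_left_injective ?_
    show φ r * fK ^ k = w * fK ^ k
    rw [hc', hr, map_mul, map_pow, hφf, mul_comm]
  · rintro ⟨c, rfl⟩
    exact ((Algebra.IsIntegral.isIntegral (R := B) c).map A.val).tower_top

end

/-- The normalisation of the cyclic cover. -/
theorem main (hf : f ≠ 0) [IsRegularRing (B ⧸ Ideal.span {f})] (hN : N = d * n) (hα : α = d * a)
    (hd : 0 < d) (hn : 0 < n) (hNB : IsUnit (N : B)) (key : a * x + n * z = n * y + 1)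
    (A : Subalgebra B (Kring N α u f))
    (hA : A = Algebra.adjoin B (Set.range fun k : Fin N => tK N α u f ^ (k : ℕ) * iK N α u f ^ ((k : ℕ) * α / N))) :
    Module.Finite B A ∧ IsIntegralClosure A (Cring N α u f) (Kring N α u f) ∧ IsRegularRing A := by
  have hN0 : 0 < N := hN ▸ Nat.mul_pos hd hn
  have hNBd : IsUnit ((d : B) * n) := by rw [← Nat.cast_mul, ← hN]; exact hNB
  rw [IsUnit.mul_iff] at hNBd
  have := isRegularRing_Rring (x := x) u f hd hNBd.1 hn hNBd.2 hf
  have := free_Sring u hd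
  have := finite_Sring u hd
  let R := Rring (d := d) (n := n) (x := x) u f
  have hmR := monic_X_pow_sub_C (wS d u ^ x * algebraMap B (Sring d u) f) hn.ne'
  have : Module.Free (Sring d u) R := hmR.free_adjoinRoot
  have : Module.Finite (Sring d u) R := hmR.finite_adjoinRoot
  have : Module.Free B R := Module.Free.trans (R := B) (S := Sring d u) (M := R)
  have : Module.Finite B R := Module.Finite.trans (Sring d u) R
  have : Module.Finite B (Cring N α u f) := (monic_X_pow_sub_C ((u : B) * f ^ α) hN0.ne').finite_adjoinRoot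
  have hfR : algebraMap B R f ∈ nonZeroDivisors R := algebraMap_ne_zero_mem_nonZeroDivisors hf
  let W : R := algebraMap (Sring d u) R (wS d u)
  let v : R := AdjoinRoot.root _
  obtain ⟨W', hW⟩ := ((isUnit_wS u hd).map (algebraMap (Sring d u) R)).exists_right_inv
  have hWd : W ^ d = algebraMap B R u := by
    rw [← map_pow, wS_pow, ← IsScalarTower.algebraMap_apply]
  have hv : v ^ n = W ^ x * algebraMap B R f := by
    refine (root_pow hn _).trans ?_
    rw [map_mul (algebraMap (Sring d u) R), map_pow (algebraMap (Sring d u) R), ← IsScalarTower.algebraMap_apply]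
  have htr : (AdjoinRoot.root _ : Cring N α u f) ^ N =
      algebraMap B (Cring N α u f) u * algebraMap B (Cring N α u f) f ^ α := by
    refine (root_pow hN0 _).trans ?_
    rw [map_mul (algebraMap B (Cring N α u f)), map_pow (algebraMap B (Cring N α u f))]
  obtain ⟨ψ, hψ, -⟩ := exists_lift ((u : B) * f ^ α) (T := R) (Algebra.ofId B R) (v ^ a * W ^ z * W' ^ y) (N := N) (by
    rw [hN, mul_comm d n, pow_mul, (t0_pow (n := n) (x := x) a y z W W' v hW hv key).1, mul_pow, hWd, ← pow_mul,
      mul_comm a d, ← hα, map_mul (Algebra.ofId B R), map_pow (Algebra.ofId B R)]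
    rfl)
  have hfi : algebraMap B (Kring N α u f) f * iK N α u f = 1 := by
    rw [IsScalarTower.algebraMap_apply B (Cring N α u f) (Kring N α u f)]
    exact IsLocalization.Away.mul_invSelf _
  obtain ⟨φS, hφS, -⟩ := exists_lift (u : B) (Algebra.ofId B (Kring N α u f)) (tK N α u f ^ n * iK N α u f ^ a) (N := d) (by
    show _ = algebraMap B (Kring N α u f) u
    rw [mul_pow, ← pow_mul, ← pow_mul, mul_comm n d, ← hN, mul_comm a d, ← hα, ← map_pow (algebraMap (Cring N α u f) _),
      htr, map_mul (algebraMap (Cring N α u f) _), map_pow (algebraMap (Cring N α u f) _), ← IsScalarTower.algebraMap_apply,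
      ← IsScalarTower.algebraMap_apply, mul_assoc, ← mul_pow, hfi, one_pow, mul_one])
  obtain ⟨φ, hφW, hφv⟩ := exists_phi (n := n) (x := x) a y z f (K := Kring N α u f) (tK N α u f) (iK N α u f)
    (wS d u) φS hφS key hfi
  exact main_abs (d := d) (n := n) (x := x) a y z N α u f hfR hN hα hd hn key _ htr
    (AdjoinRoot.adjoinRoot_eq_top) W W' v hW hv (adjoin_tower_eq_top _ AdjoinRoot.adjoinRoot_eq_top _) ψ hψ φ hφW hφv A hA

end Groth.Agent.CycCov3
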